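import Mathlib
import Cfsg.Agent.Lib.RankOneOdd.Descend
import Cfsg.Agent.Lib.RankOne.Elem
import Cfsg.Agent.Lib.RankOne.Struct
import Cfsg.Agent.Lib.RankOne.Canon

/-!
# From the rank one set-up to the linear frame
-/

set_option autoImplicit false
set_option linter.unusedSectionVars false

namespace Cfsg.Agent.Lib.RankOneOdd.Bridge

open Cfsg Cfsg.Agent.Lib.RankOne.Basic Cfsg.Agent.Lib.RankOne.Invol Cfsg.Agent.Lib.RankOne.Struct
  Cfsg.Agent.Lib.RankOne.Canon Cfsg.Agent.Lib.RankOne.Elem Cfsg.Agent.Lib.RankOneOdd.Frame1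

variable {G Ω : Type*} [Group G] [Finite G] [MulAction G Ω] {a : Ω} {t : G} {Q : Subgroup G}

theorem bridge (hS : Cfsg.IsRankOneSetup G Ω a t Q)
    (h2 : ∃ x y : G, x ≠ 1 ∧ y ≠ 1 ∧ x ≠ y ∧ x * x = 1 ∧ y * y = 1 ∧ x * y = y * x) :
    (∃ k₀ ∈ KK G a t, ∀ k ∈ KK G a t, ∃ m : ℤ, k = k₀ ^ m) ∧
      (∃ v ∈ DD G a t, v * t = t * v ∧ ∀ x ∈ DD G a t, x * t = t * x →
        ∃ (m : ℤ) (w : G), w ∈ DD G a t ∧ (∀ s ∈ IA G a, w * s = s * w) ∧ x = v ^ m * w) := by
  classical
  have hnil := nilpotent hS h2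
  have hti : t⁻¹ = t := t_inv hS
  let Z : Subgroup G :=
    { carrier := {x | x = 1 ∨ x ∈ IA G a}
      one_mem' := Or.inl rfl
      mul_mem' := by
        rintro x y (rfl | hx) (rfl | hy)
        · exact Or.inl (one_mul 1)
        · rw [one_mul]
          exact Or.inr hy
        · rw [mul_one]
          exact Or.inr hx
        · by_cases h1 : x * y = 1
          · exact Or.inl h1
          · refine Or.inr ⟨mul_mem hx.1 hy.1, h1, ?_⟩
            have hc := invol_mul hS hnil hx hy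
            calc x * y * (x * y) = x * (y * x) * y := by group
              _ = x * (x * y) * y := by rw [hc]
              _ = (x * x) * (y * y) := by group
              _ = 1 := by rw [hx.2.2, hy.2.2, one_mul]
      inv_mem' := by
        rintro x (rfl | hx)
        · left
          simp
        · right
          have h1 : x⁻¹ = x := inv_eq_of_mul_eq_one_left hx.2.2
          rw [h1]
          exact hx }
  have hZmem : ∀ x, x ∈ Z ↔ x = 1 ∨ x ∈ IA G a := fun _ => Iff.rfl
  have hZ2 : ∀ x : Z, x * x = 1 := by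
    rintro ⟨x, hx⟩
    apply Subtype.ext
    rcases (hZmem x).1 hx with rfl | hx'
    · exact one_mul 1
    · exact hx'.2.2
  have hconjIA : ∀ d : G, d • a = a → ∀ s ∈ IA G a, d * s * d⁻¹ ∈ IA G a := by
    intro d hd s hs
    obtain ⟨h3, h4, h5⟩ := hs
    refine ⟨?_, conj_ne_one h4, conj_sq h5⟩
    have hd' : d ∈ MulAction.stabilizer G a := hd
    exact mul_mem (mul_mem hd' h3) (inv_mem hd')
  have hconjZ : ∀ d : G, d • a = a → ∀ z ∈ Z, d * z * d⁻¹ ∈ Z := by
    intro d hd z hz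
    rcases (hZmem z).1 hz with rfl | hz'
    · left
      simp
    · exact Or.inr (hconjIA d hd z hz')
  have hDa : ∀ d : DD G a t, (d : G) • a = a := fun d => (mem_DD.1 d.2).1
  have hDa' : ∀ d : DD G a t, (d : G)⁻¹ • a = a := fun d => (mem_DD.1 (inv_mem d.2)).1
  let φ : DD G a t →* MulAut Z :=
    { toFun := fun d =>
        { toFun := fun z => ⟨d * z * (d : G)⁻¹, hconjZ d (hDa d) z z.2⟩
          invFun := fun z => ⟨(d : G)⁻¹ * z * d, by
            have h3 := hconjZ (d : G)⁻¹ (hDa' d) z z.2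
            rwa [inv_inv] at h3⟩
          left_inv := fun z => by
            apply Subtype.ext
            change (d : G)⁻¹ * (d * z * (d : G)⁻¹) * d = z
            group
          right_inv := fun z => by
            apply Subtype.ext
            change (d : G) * ((d : G)⁻¹ * z * d) * (d : G)⁻¹ = z
            group
          map_mul' := fun x y => by
            apply Subtype.ext
            change (d : G) * ((x : G) * y) * (d : G)⁻¹ = (d * x * (d : G)⁻¹) * (d * y * (d : G)⁻¹)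
            group }
      map_one' := by
        ext z
        change (1 : G) * z * (1 : G)⁻¹ = z
        group
      map_mul' := fun x y => by
        ext z
        change ((x : G) * y) * z * ((x : G) * y)⁻¹ = x * (y * z * (y : G)⁻¹) * (x : G)⁻¹
        group }
  have hφ : ∀ (d : DD G a t) (z : Z), ((φ d z : Z) : G) = d * z * (d : G)⁻¹ := fun _ _ => rfl
  obtain ⟨n, e, ρD, he, hρ⟩ := Cfsg.Agent.Lib.RankOneOdd.MatRep.exists_matrix_rep hZ2 φ
  have he1 : e 1 = 0 := by
    have h3 := he 1 1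
    rw [mul_one] at h3
    exact left_eq_add.1 h3
  have he0 : ∀ z : Z, e z = 0 → z = 1 := by
    intro z hz
    apply e.injective
    rw [hz, he1]
  obtain ⟨s₀, r₀, hs₀, hr₀, e₀⟩ := exists_structure hS
  have hsZ : ∀ s ∈ IA G a, s ∈ Z := fun s hs => Or.inr hs
  let z₀ : VV n := e ⟨s₀, hsZ s₀ hs₀⟩
  have hne : z₀ ≠ 0 := by
    intro h3
    have h4 := he0 _ h3
    exact hs₀.2.1 (congrArg Subtype.val h4)
  let τD : DD G a t ≃* DD G a t :=
    { toFun := fun d => ⟨t * d * t, t_conj_mem_DD hS d.2⟩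
      invFun := fun d => ⟨t * d * t, t_conj_mem_DD hS d.2⟩
      left_inv := fun d => Subtype.ext (t_conj_conj hS d)
      right_inv := fun d => Subtype.ext (t_conj_conj hS d)
      map_mul' := fun x y => Subtype.ext (t_conj_mul hS x y) }
  have hτ : ∀ d : DD G a t, ((τD d : DD G a t) : G) = t * d * t := fun _ => rfl
  have hτfix : ∀ d : DD G a t, τD d = d ↔ (d : G) * t = t * d := by
    intro d
    constructor
    · intro h3
      have h4 : t * (d : G) * t = d := by rw [← hτ, h3]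
      calc (d : G) * t = t * d * t * t := by rw [h4]
        _ = t * d * (t * t) := by group
        _ = t * d := by rw [hS.mul_self, mul_one]
    · intro h3
      apply Subtype.ext
      rw [hτ, ← h3, mul_assoc, hS.mul_self, mul_one]
  have hfix : ∀ d, τD d = d ↔ (ρD d).mulVec z₀ = z₀ := by
    intro d
    rw [hτfix]
    change _ ↔ (ρD d).mulVec (e ⟨s₀, hsZ s₀ hs₀⟩) = e ⟨s₀, hsZ s₀ hs₀⟩
    rw [hρ, e.injective.eq_iff]
    constructor
    · intro h3
      have h4 := commute_s_of_commute_t hS hs₀ hr₀ e₀ d.2 h3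
      apply Subtype.ext
      rw [hφ]
      change (d : G) * s₀ * (d : G)⁻¹ = s₀
      rw [h4, mul_inv_cancel_right]
    · intro h3
      have h4 : (d : G) * s₀ * (d : G)⁻¹ = s₀ := congrArg Subtype.val h3
      rw [mul_inv_eq_iff_eq_mul] at h4
      exact commute_t_of_commute_s hS hs₀ hr₀ e₀ d.2 h4
  have hKK : ∀ k : DD G a t, (k : G) ∈ KK G a t ↔ τD k = k⁻¹ := by
    intro k
    constructor
    · intro h3
      apply Subtype.ext
      have h4 := h3.2
      rw [hti] at h4
      rw [hτ, h4]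
      rfl
    · intro h3
      refine ⟨k.2, ?_⟩
      rw [hti, ← hτ, h3]
      rfl
  have htrans : ∀ z, z ≠ 0 → ∃ k, τD k = k⁻¹ ∧ (ρD k).mulVec z₀ = z := by
    intro z hz
    have h3 : e.symm z ≠ 1 := by
      intro h4
      apply hz
      rw [← he1, ← h4, Equiv.apply_symm_apply]
    have h4 : ((e.symm z : Z) : G) ∈ IA G a := by
      rcases (hZmem _).1 (e.symm z).2 with h5 | h5
      · exact absurd (Subtype.ext h5) h3
      · exact h5
    obtain ⟨k, hk, ek⟩ := exists_K_conj hS hs₀ h4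
    have hk' : (⟨k, hk.1⟩ : DD G a t)⁻¹ = ⟨k⁻¹, inv_mem hk.1⟩ := rfl
    refine ⟨⟨k⁻¹, inv_mem hk.1⟩, ?_, ?_⟩
    · rw [← hk', map_inv, ((hKK ⟨k, hk.1⟩).1 hk)]
    · change (ρD _).mulVec (e ⟨s₀, hsZ s₀ hs₀⟩) = z
      rw [hρ]
      have h5 : φ ⟨k⁻¹, inv_mem hk.1⟩ ⟨s₀, hsZ s₀ hs₀⟩ = e.symm z := by
        apply Subtype.ext
        rw [hφ]
        change k⁻¹ * s₀ * (k⁻¹)⁻¹ = _
        rw [inv_inv]
        exact ek
      rw [h5, Equiv.apply_symm_apply]
  have hn : 2 ≤ n := by
    obtain ⟨s, hs, s', hs', hne'⟩ := exists_two_invol hS h2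
    by_contra hlt
    have hall : ∀ z z' : VV n, z ≠ 0 → z' ≠ 0 → z = z' := by
      intro z z' hz hz'
      have hn' : n = 0 ∨ n = 1 := by omega
      rcases hn' with rfl | rfl
      · exact Subsingleton.elim _ _
      · have h3 : ∀ y : VV 1, y ≠ 0 → y 0 = 1 := by
          intro y hy
          have h4 : y 0 ≠ 0 := by
            intro h5
            apply hy
            funext i
            rw [Subsingleton.elim i 0, h5]
            rfl
          generalize y 0 = b at h4
          revert b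
          decide
        funext i
        rw [Subsingleton.elim i 0, h3 z hz, h3 z' hz']
    have hnz : ∀ s (hs : s ∈ IA G a), e ⟨s, hsZ s hs⟩ ≠ 0 := by
      intro s hs h3
      exact hs.2.1 (congrArg Subtype.val (he0 _ h3))
    have h3 := e.injective (hall _ _ (hnz s hs) (hnz s' hs'))
    exact hne' (congrArg Subtype.val h3)
  have hoddD : Odd (Nat.card (DD G a t)) := odd_D hS
  have hinv : ∀ x, τD (τD x) = x := fun x => Subtype.ext (t_conj_conj hS x)
  obtain ⟨⟨k₀, hk₀, hall⟩, ⟨v, hv, hvall⟩⟩ :=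
    Cfsg.Agent.Lib.RankOneOdd.Descend.descend ρD τD z₀ hoddD hinv hne hfix htrans hn
  refine ⟨⟨k₀, (hKK k₀).2 hk₀, ?_⟩, ⟨v, v.2, (hτfix v).1 hv, ?_⟩⟩
  · intro k hk
    obtain ⟨m, hm⟩ := hall ⟨k, hk.1⟩ ((hKK ⟨k, hk.1⟩).1 hk)
    exact ⟨m, congrArg Subtype.val hm⟩
  · intro x hx hxt
    obtain ⟨m, hm⟩ := hvall ⟨x, hx⟩ ((hτfix ⟨x, hx⟩).2 hxt)
    set w : DD G a t := (v ^ m)⁻¹ * ⟨x, hx⟩ with hw
    have hρw : ρD w = 1 := by
      have hinv1 : ρD (v ^ m)⁻¹ * ρD (v ^ m) = 1 := by rw [← map_mul, inv_mul_cancel, map_one]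
      rw [hw, map_mul, hm, hinv1]
    refine ⟨m, w, w.2, ?_, ?_⟩
    · intro s hs
      have h3 : (ρD w).mulVec (e ⟨s, hsZ s hs⟩) = e ⟨s, hsZ s hs⟩ := by
        rw [hρw, Matrix.one_mulVec]
      rw [hρ, e.injective.eq_iff] at h3
      have h4 : (w : G) * s * (w : G)⁻¹ = s := congrArg Subtype.val h3
      rwa [mul_inv_eq_iff_eq_mul] at h4
    · have h3 : ((v ^ m * w : DD G a t) : G) = x := by
        rw [hw, mul_inv_cancel_left]
      rw [← h3]
      rfl

end Cfsg.Agent.Lib.RankOneOdd.Bridge
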